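import Groth.Agent.H10Coh.OpenSS.Rational
import Groth.Agent.H16Derived.BaseChange.FlatSES
import Groth.Prelude.Def_Pic13

/-!
# Subsheaves with quotients of given Hilbert polynomial form a bounded family
-/

set_option autoImplicit false
set_option linter.style.haveILetI false
set_option backward.isDefEq.respectTransparency.types false

noncomputable section

universe u

open CategoryTheory CategoryTheory.Limits AlgebraicGeometry Polynomial
open Groth.Agent Groth.Agent.H22Alg
open Groth.Agent.H17.QuotSch (str cI aT pX Eul hv)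

namespace Groth.Agent.H10Coh.SatSub

/-- The first term of a short exact sequence is the kernel. -/
def isoKernel {C : Type*} [Category C] [Abelian C] {S : ShortComplex C} (hS : S.ShortExact) : S.X₁ ≅ kernel S.g :=
  hS.fIsKernel.conePointUniqueUpToIso (limit.isLimit _)

/-- The first term of a sequence after an exact base change. -/
theorem nonempty_iso_kernel_map {X Y : Scheme.{u}} (h : X ⟶ Y) {S : ShortComplex Y.Modules}
    (hS : (S.map (Scheme.Modules.pullback h)).ShortExact) {A : X.Modules}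
    (a : A ≅ (Scheme.Modules.pullback h).obj S.X₂) :
    Nonempty (kernel (a.hom ≫ (Scheme.Modules.pullback h).map S.g) ≅ (Scheme.Modules.pullback h).obj S.X₁) :=
  ⟨kernelIsIsoComp a.hom ((Scheme.Modules.pullback h).map S.g) ≪≫ (isoKernel hS).symm⟩

theorem shortExact_cokernel {C : Type*} [Category C] [Abelian C] {A B : C} (f : A ⟶ B) [Mono f] :
    (ShortComplex.mk f (cokernel.π f) (cokernel.condition f)).ShortExact :=
  { exact := ShortComplex.exact_cokernel f }

variable {k : Type u} [Field k] {n : ℕ} {X : Scheme.{u}} [X.Over (Spec (CommRingCat.of k))]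
  [IsProper (X ↘ Spec (CommRingCat.of k))]
  (i : X ⟶ CohB1.ProjSpaceOver n (Spec (CommRingCat.of k))) [IsClosedImmersion i]
  (hstr : str i = X ↘ Spec (CommRingCat.of k)) {F : X.Modules}

include hstr

omit [IsProper (X ↘ Spec (CommRingCat.of k))] [IsClosedImmersion i] in
theorem sq_self : IsPullback (𝟙 X) (X ↘ Spec (CommRingCat.of k)) (str i) (𝟙 (Spec (CommRingCat.of k))) :=
  IsPullback.of_horiz_isIso ⟨by rw [Category.id_comp, Category.comp_id, hstr]⟩

/-- A bounded family from the Quot scheme. -/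
theorem isBounded_subsheaves (hF : Coh.IsCoh F) (φ : ℚ[X]) :
    Pic13.IsBounded k X fun G => ∃ ι : G ⟶ F, Mono ι ∧ Coh.IsCoh G ∧
      ShStab.IsHilbPoly k X (OpenSS.Otw i (𝟙 X) 1) (cokernel ι) φ := by
  let S := Spec (CommRingCat.of k)
  haveI : IsLocallyNoetherian X := LocallyOfFiniteType.isLocallyNoetherian (X ↘ Spec (CommRingCat.of k))
  by_cases hint : ∃ f : ℤ → ℤ, ∀ m : ℤ, (f m : ℚ) = φ.eval (m : ℚ)
  swap
  · refine ⟨Spec (CommRingCat.of k), 𝟙 _, inferInstance, inferInstance,
      (Scheme.Modules.pullback (pullback.fst _ _)).obj F, H17.ConsProp.isCoh_pullback _ hF,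
      fun G ⟨ι, hι, hG, hφ⟩ => absurd (OpenSS.exists_int_of_hilbPoly (sq_self i hstr)
        (H10Coh.isCoh_cokernel ι hG.1 hF) hφ) hint⟩
  obtain ⟨f, hf⟩ := hint
  obtain ⟨Q, K₀, hQn, hEul, hu, hprop⟩ := H17.QuotSch.exists_fixed_proper i hF φ hf
  haveI := hprop
  haveI := hQn
  haveI : IsLocallyNoetherian (PicF.XT (str i) Q) := H17.QuotSch.isLocallyNoetherian_XT i Q
  let K : (PicF.XT (str i) Q).Modules := (K₀.1 : (PicF.XT (str i) Q).Modules)
  have hK : Coh.IsCoh K := by
    have h := H10Coh.isCoh_kernel (cokernel.π K₀.1.arrow) (H17.ConsProp.isCoh_pullback (aT i Q) hF) K₀.2.1.1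
    exact H10Coh.isCoh_of_iso (isoKernel (shortExact_cokernel K₀.1.arrow)).symm h
  let c : Pic13.prodK k X Q.hom ⟶ PicF.XT (str i) Q := (pullback.congrHom hstr rfl).inv
  refine ⟨Q.left, Q.hom, inferInstance, inferInstance, (Scheme.Modules.pullback c).obj K,
    H17.ConsProp.isCoh_pullback _ hK, fun G ⟨ι, hι, hG, hφ⟩ => ?_⟩
  haveI := hι
  let T : Over S := Over.mk (𝟙 S)
  haveI : IsLocallyNoetherian T.left := inferInstanceAs (IsLocallyNoetherian (Spec (CommRingCat.of k)))
  let sq := sq_self i hstr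
  let e : X ≅ PicF.XT (str i) T := sq.isoPullback
  have he : e.inv ≫ 𝟙 X = aT i T := sq.isoPullback_inv_fst
  haveI : (Scheme.Modules.pullback e.inv).IsLeftAdjoint :=
    (Scheme.Modules.pullbackPushforwardAdjunction e.inv).isLeftAdjoint
  haveI := H16Derived.KFlat.Stalk.preservesFiniteLimits_pullback_of_flat e.inv
  haveI : PreservesFiniteColimits (Scheme.Modules.pullback e.inv) :=
    @PreservesColimitsOfSize.preservesFiniteColimits.{0, 0} _ _ _ _ _
      (Scheme.Modules.pullbackPushforwardAdjunction e.inv).leftAdjoint_preservesColimits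
  have hC : Coh.IsCoh (cokernel ι) := H10Coh.isCoh_cokernel ι hG.1 hF
  let G' := (Scheme.Modules.pullback e.inv).obj (cokernel ι)
  let a : FGA.ET (str i) F T ≅ (Scheme.Modules.pullback e.inv).obj F :=
    (cI e.inv (𝟙 X) he F).symm ≪≫ (Scheme.Modules.pullback e.inv).mapIso ((Scheme.Modules.pullbackId X).app F)
  let π' : FGA.ET (str i) F T ⟶ G' := a.hom ≫ (Scheme.Modules.pullback e.inv).map (cokernel.π ι)
  haveI : Epi ((Scheme.Modules.pullback e.inv).map (cokernel.π ι)) := inferInstance
  haveI : Epi π' := epi_comp _ _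
  have hG' : Coh.IsCoh G' := H17.ConsProp.isCoh_pullback _ hC
  obtain ⟨e₀⟩ := H24Quot.nonempty_cokernel_iso π' (kernelSubobject π') rfl
  let K' : FGA.QuotSet (str i) F T := ⟨kernelSubobject π', H10Coh.isCoh_of_iso e₀ hG',
    H24Quot.isFlatOver_congr _ e₀ (H28Int.FieldExt.isFlatOver_of_field (k := k) (pX i T) G')⟩
  have hE : Eul i T (cokernel K'.1.arrow) f := by
    refine H17.QuotSch.eul_congr i e₀ (H17.QuotSch.eul_of_hilb i hG' φ hf fun t' => funext fun m => ?_)
    rw [H17.QuotSch.hilb_eq]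
    exact Int.cast_injective (α := ℚ) ((OpenSS.hv_of_hilbPoly i sq hC hφ t' m).trans
      (Eq.trans (by norm_num) (hf (m : ℤ)).symm))
  obtain ⟨g, hg, -⟩ := hu T K' hE
  haveI : Epi (H24Quot.pullQ (str i) F g (cokernel.π K₀.1.arrow)) := H24Quot.epi_pullQ (str i) F g _
  have hsub : kernelSubobject (H24Quot.pullQ (str i) F g (cokernel.π K₀.1.arrow)) = kernelSubobject π' :=
    (H24Quot.quotPull_eq (str i) F g (cokernel.π K₀.1.arrow) K₀.1
      (H24Quot.kernelSubobject_cokernel_π K₀.1).symm).symm.trans hg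
  have h1 := H16Derived.BaseChange.shortExact_pullback_of_flatOver (H17.QuotSch.isPullback_XTmap' (i := i) g)
    (shortExact_cokernel K₀.1.arrow) K₀.2.2
  obtain ⟨i₁⟩ := nonempty_iso_kernel_map (PicF.XTmap (str i) g) h1 (FGA.ETiso (str i) F g).symm
  have h2 : ((ShortComplex.mk ι (cokernel.π ι) (cokernel.condition ι)).map (Scheme.Modules.pullback e.inv)).ShortExact :=
    (shortExact_cokernel ι).map_of_exact _
  obtain ⟨i₂⟩ := nonempty_iso_kernel_map e.inv h2 a
  let i₃ : (Scheme.Modules.pullback (PicF.XTmap (str i) g)).obj K ≅ (Scheme.Modules.pullback e.inv).obj G :=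
    i₁.symm ≪≫ (kernelSubobjectIso _).symm ≪≫ Subobject.isoOfEq _ _ hsub ≪≫ kernelSubobjectIso _ ≪≫ i₂
  have ht : g.left ≫ Q.hom = 𝟙 _ := Over.w g
  refine ⟨g.left, ht, ⟨?_⟩⟩
  have hs : Pic13.sliceAt k X Q.hom g.left ht ≫ c = e.hom ≫ PicF.XTmap (str i) g := by
    refine pullback.hom_ext ?_ ?_
    · rw [Category.assoc, Category.assoc, show PicF.XTmap (str i) g ≫ pullback.fst (str i) Q.hom =
        pullback.fst (str i) T.hom from FGA.XTmap_fst (str i) g,
        show c ≫ pullback.fst (str i) Q.hom = pullback.fst (X ↘ Spec (CommRingCat.of k)) Q.hom from by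
          simp only [c, pullback.congrHom_inv, pullback.map, pullback.lift_fst, pullback.lift_snd, Category.comp_id]]
      exact (pullback.lift_fst _ _ _).trans sq.isoPullback_hom_fst.symm
    · rw [Category.assoc, Category.assoc, H17.QuotSch.XTmap_pX, ← Category.assoc e.hom,
        show c ≫ pullback.snd (str i) Q.hom = pullback.snd (X ↘ Spec (CommRingCat.of k)) Q.hom from by
          simp only [c, pullback.congrHom_inv, pullback.map, pullback.lift_fst, pullback.lift_snd, Category.comp_id],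
        show e.hom ≫ pX i T = X ↘ Spec (CommRingCat.of k) from sq.isoPullback_hom_snd]
      exact pullback.lift_snd _ _ _
  exact cI (Pic13.sliceAt k X Q.hom g.left ht) c hs K ≪≫
    (cI e.hom (PicF.XTmap (str i) g) rfl K).symm ≪≫ (Scheme.Modules.pullback e.hom).mapIso i₃ ≪≫
    cI e.hom e.inv e.hom_inv_id G ≪≫ (Scheme.Modules.pullbackId X).app G

end Groth.Agent.H10Coh.SatSub
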