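import Groth.Agent.H10Coh.SatSub.Union
import Groth.Agent.H10Coh.SatSub.Family
import Groth.Agent.H10Coh.OpenSS.Quot
import Groth.Agent.H11Ample.VeryAmple
import Groth.Agent.H22Alg.NakaiGen

/-!
# Saturated subsheaves of bounded slope form a bounded family
-/

set_option autoImplicit false
set_option linter.style.haveILetI false
set_option backward.isDefEq.respectTransparency.types false

noncomputable section

universe u

open CategoryTheory CategoryTheory.Limits AlgebraicGeometry Polynomial StabCat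
open Groth.Agent Groth.Agent.H10Coh.Stab
open Groth.Agent.H17.QuotSch (str)

namespace Groth.Agent.H10Coh.SatSub

variable {k : Type u} [Field k] [IsAlgClosed k] {X : Scheme.{u}} [X.Over (Spec (CommRingCat.of k))]
  [IsProper (X ↘ Spec (CommRingCat.of k))]

theorem isBounded_saturated {L : X.Modules} (hL : CohB1.IsAmple L) (d : ℕ) (hd : 1 ≤ d) {F : X.Modules}
    (hF : Coh.IsCoh F) (hpure : ShStab.IsPure X F d) (b : ℚ) :
    Pic13.IsBounded k X (fun G =>
      Coh.IsCoh G ∧ ∃ ι : G ⟶ F, Mono ι ∧ ShStab.IsPure X (cokernel ι) d ∧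
        ∀ pG : ℚ[X], ShStab.IsHilbPoly k X L G pG → b ≤ hatSlope d pG) := by
  haveI : IsLocallyNoetherian X := isLocallyNoetherian_of_proper (Z := X) k
  haveI : CompactSpace X := hL.2.1
  haveI : QuasiSeparatedSpace X := H11Ample.quasiSeparatedSpace_of_isAmple hL
  obtain ⟨m₀, hm₀⟩ := H11Ample.eventually_isRelVeryAmplePn (X ↘ Spec (CommRingCat.of k)) hL
  let m := m₀ + 1
  obtain ⟨n, i, hi, hstr, ⟨eL⟩⟩ := hm₀ m (Nat.le_succ m₀)
  haveI := hi
  haveI : IsProper (i ≫ CohB1.ProjSpaceOver.toBase n (Spec (CommRingCat.of k))) := hstr.symm ▸ inferInstance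
  haveI := H27Weil.isProper_toBase n (Spec (CommRingCat.of k))
  haveI : IsProper i := IsProper.of_comp i (CohB1.ProjSpaceOver.toBase n (Spec (CommRingCat.of k)))
  haveI : IsClosedImmersion i := IsClosedImmersion.of_isPreimmersion i i.isClosedMap.isClosed_range
  have hstr' : str i = X ↘ Spec (CommRingCat.of k) := hstr
  let eL' : CohB1.tensorPow L m ≅ OpenSS.Otw i (𝟙 X) 1 := eL ≪≫ ((Scheme.Modules.pullbackId X).app _).symm
  obtain ⟨pF, hpF⟩ := exists_hilb_self (k := k) hL hpure hF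
  let amax : ℚ := (m : ℚ) ^ d * alpha d pF
  let Cb : ℚ := (m : ℚ) ^ (d - 1) * (|pF.coeff (d - 1)| + |b| * alpha d pF)
  have hΦ := OpenSS.finite_purePolys (i := i) hF d amax Cb
  obtain ⟨r, e, he⟩ := hΦ.fin_param
  obtain ⟨T, q, h1, h2, M, hM, hall⟩ := isBounded_iUnion (fun a => fun G => ∃ ι : G ⟶ F, Mono ι ∧ Coh.IsCoh G ∧
    ShStab.IsHilbPoly k X (OpenSS.Otw i (𝟙 X) 1) (cokernel ι) (e a))
    fun a => isBounded_subsheaves i hstr' hF (e a)
  refine ⟨T, q, h1, h2, M, hM, fun G hG' => hall G ?_⟩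
  revert G
  rintro G ⟨hG, ι, hι, hQp, hslope⟩
  haveI := hι
  have hQ : Coh.IsCoh (cokernel ι) := H10Coh.isCoh_cokernel ι hG.1 hF
  obtain ⟨pG, hpG⟩ := exists_hilb_of_mono (k := k) hL hpure hF ι hG
  have hpQ := (H25Euler.polyLE_of_mono hL hG hF ι hpG hpF).2
  let φ : ℚ[X] := (pF - pG).comp (C (m : ℚ) * Polynomial.X)
  have hφ : ShStab.IsHilbPoly k X (OpenSS.Otw i (𝟙 X) 1) (cokernel ι) φ := by
    refine StabBC.hilbPoly_congrL eL' fun j => ?_
    obtain ⟨ej⟩ := H22Alg.NakaiGen.nonempty_tensorPow_mul L m j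
    rw [eval_comp, eval_mul, eval_C, eval_X, ← Nat.cast_mul, ← hpQ (m * j)]
    exact congrArg (fun z : ℤ => (z : ℚ)) (H25Euler.euler_congr (PicGrp.tensorModIso (Iso.refl _) ej))
  have hαG : 0 ≤ alpha d pG := alpha_nonneg hL (isPure_of_mono hpure ι) hG hpG
  have hαle : alpha d pG ≤ alpha d pF := alpha_le_of_mono hL hpure hF hG ι hpG hpF
  have hm0 : (0 : ℚ) ≤ m := Nat.cast_nonneg m
  have hαφ : alpha d φ = (m : ℚ) ^ d * (alpha d pF - alpha d pG) := by
    simp only [φ, alpha, comp_C_mul_X_coeff, coeff_sub]; ring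
  have hb1 : pG.coeff (d - 1) ≥ -(|b| * alpha d pF) := by
    rcases hαG.eq_or_lt with h | h
    · have hz : IsZero G := isZero_of_alpha_eq_zero hL (isPure_of_mono hpure ι) hG hpG h.symm
      rw [H25Euler.hilbPoly_unique hpG (H25Euler.hilbPoly_zero hz), coeff_zero]
      simp only [ge_iff_le, neg_nonpos]
      exact mul_nonneg (abs_nonneg b) (hαG.trans hαle)
    · have hs := hslope pG hpG
      have hf : (1 : ℚ) ≤ (d - 1).factorial := by exact_mod_cast Nat.factorial_pos (d - 1)
      rw [hatSlope, le_div_iff₀ h, show alpha (d - 1) pG = ((d - 1).factorial : ℚ) * pG.coeff (d - 1) from rfl] at hs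
      have h1 : -(|b| * alpha d pF) ≤ b * alpha d pG := by
        nlinarith [neg_abs_le b, abs_nonneg b, mul_le_mul_of_nonneg_left hαle (abs_nonneg b)]
      rcases le_or_gt 0 (pG.coeff (d - 1)) with hc | hc
      · exact le_trans (neg_nonpos.2 (mul_nonneg (abs_nonneg b) (hαG.trans hαle))) hc
      · nlinarith
  have hmem : φ ∈ OpenSS.PurePolys i F Set.univ d amax Cb := by
    let π : (Scheme.Modules.pullback (𝟙 X)).obj F ⟶ cokernel ι :=
      ((Scheme.Modules.pullbackId X).app F).hom ≫ cokernel.π ι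
    refine ⟨k, inferInstance, inferInstance, 𝟙 _, X, inferInstance, 𝟙 X, sq_self i hstr', Set.subset_univ _,
      cokernel ι, π, epi_comp _ _, hQ, hφ, hQp, ?_, ?_, ?_⟩
    · refine OpenSS.dim_le_of_epi (cokernel.π ι) ?_
      have h := dim_lt_succ_of_pure hpure hF
      revert h
      generalize topologicalKrullDim (CohB1.support F) = x
      cases x with
      | bot => exact fun _ => bot_le
      | coe x =>
        intro h
        have h' : x < ((d : ℕ∞) + 1) := WithBot.coe_lt_coe.1 (by exact_mod_cast h)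
        exact WithBot.coe_le_coe.2 ((ENat.lt_add_one_iff (ENat.natCast_ne_top d)).1 h')
    · rw [hαφ]
      exact mul_le_mul_of_nonneg_left (by linarith) (pow_nonneg hm0 d)
    · simp only [φ, Cb, comp_C_mul_X_coeff, coeff_sub]
      rw [mul_comm]
      refine mul_le_mul_of_nonneg_left ?_ (pow_nonneg hm0 _)
      linarith [le_abs_self (pF.coeff (d - 1))]
  rw [← he.2] at hmem
  obtain ⟨a, ha⟩ := hmem
  exact ⟨a, ι, hι, hG, ha ▸ hφ⟩

end Groth.Agent.H10Coh.SatSub
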