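import Groth.Agent.H10Coh.OpenSS.PurePush
import Groth.Agent.LeadProper.Supp
import Groth.Agent.H11Ample.RelPullback
import Groth.Agent.H17.ConsModModels
import Groth.Agent.H24FSch.ModSysPush
import Groth.Prelude.Def_Pic13

/-!
# A finite union of bounded families is bounded
-/

set_option autoImplicit false
set_option linter.style.haveILetI false
set_option backward.isDefEq.respectTransparency.types false

noncomputable section

universe u

open CategoryTheory CategoryTheory.Limits AlgebraicGeometry TopologicalSpace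
open Groth.Agent

namespace Groth.Agent.H10Coh.SatSub

/-- A coproduct with a single possibly nonzero summand. -/
def sigmaIsoOfZero {C : Type*} [Category C] [HasZeroMorphisms C] {r : ℕ} (f : Fin r → C) [HasCoproduct f]
    (a : Fin r) (h : ∀ b, b ≠ a → IsZero (f b)) : (∐ f) ≅ f a where
  hom := Sigma.desc fun b => if hb : b = a then eqToHom (hb ▸ rfl) else 0
  inv := Sigma.ι f a
  hom_inv_id := by
    refine Sigma.hom_ext _ _ fun b => ?_
    rcases eq_or_ne b a with rfl | hb
    · simp
    · exact (h b hb).eq_of_src _ _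
  inv_hom_id := by simp

theorem isBounded_iUnion {k : Type u} [Field k] {X : Scheme.{u}} [X.Over (Spec (CommRingCat.of k))]
    [IsProper (X ↘ Spec (CommRingCat.of k))] {r : ℕ} (P : Fin r → X.Modules → Prop)
    (hP : ∀ a, Pic13.IsBounded k X (P a)) : Pic13.IsBounded k X fun M => ∃ a, P a M := by
  choose T q hlft hqc M hM hmem using hP
  haveI := fun a => hlft a
  haveI := fun a => hqc a
  haveI : ∀ a, CompactSpace (T a) := fun a => QuasiCompact.compactSpace_of_compactSpace (q a)
  let W : Scheme.{u} := ∐ T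
  let qW : W ⟶ Spec (CommRingCat.of k) := Sigma.desc q
  haveI : LocallyOfFiniteType qW := IsZariskiLocalAtSource.sigmaDesc (fun a => hlft a)
  haveI : CompactSpace W := by
    refine ⟨?_⟩
    have h : (Set.univ : Set W) = ⋃ a, Set.range (Sigma.ι T a).base := (Set.eq_univ_of_forall fun x => by
      exact Set.mem_iUnion.2 ⟨(sigmaOpenCover T).idx x, (sigmaOpenCover T).covers x⟩).symm
    rw [h]
    exact isCompact_iUnion fun a => isCompact_range (Sigma.ι T a).continuous
  haveI : IsLocallyNoetherian W := LocallyOfFiniteType.isLocallyNoetherian qW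
  haveI : ∀ a, IsLocallyNoetherian (T a) := fun a => LocallyOfFiniteType.isLocallyNoetherian (q a)
  haveI : ∀ a, IsLocallyNoetherian (Pic13.prodK k X (q a)) := fun a =>
    LocallyOfFiniteType.isLocallyNoetherian (pullback.snd (X ↘ Spec (CommRingCat.of k)) (q a))
  haveI : IsLocallyNoetherian (Pic13.prodK k X qW) :=
    LocallyOfFiniteType.isLocallyNoetherian (pullback.snd (X ↘ Spec (CommRingCat.of k)) qW)
  haveI : ∀ a, IsClosedImmersion (Sigma.ι T a) := fun a => by
    refine IsClosedImmersion.of_isPreimmersion _ ?_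
    have h : (Set.range (Sigma.ι T a).base)ᶜ = ⋃ b, ⋃ (_ : b ≠ a), Set.range (Sigma.ι T b).base := by
      ext x
      simp only [Set.mem_compl_iff, Set.mem_iUnion]
      refine ⟨fun hx => ⟨(sigmaOpenCover T).idx x, fun e => hx (e ▸ (sigmaOpenCover T).covers x),
        (sigmaOpenCover T).covers x⟩, fun ⟨b, hb, hx⟩ hx' => ?_⟩
      exact Set.disjoint_iff.1 (by
        simpa [Scheme.Hom.coe_opensRange] using
          (TopologicalSpace.Opens.coe_disjoint.2 (disjoint_opensRange_sigmaι T b a hb))) ⟨hx, hx'⟩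
    rw [← isOpen_compl_iff, h]
    exact isOpen_iUnion fun b => isOpen_iUnion fun _ => (Sigma.ι T b).isOpenEmbedding.isOpen_range
  let j : ∀ a, Pic13.prodK k X (q a) ⟶ Pic13.prodK k X qW := fun a =>
    pullback.lift (pullback.fst _ _) (pullback.snd _ _ ≫ Sigma.ι T a)
      (by rw [Category.assoc, Sigma.ι_desc]; exact pullback.condition)
  have hj : ∀ a, IsPullback (j a) (pullback.snd _ _) (pullback.snd (X ↘ Spec (CommRingCat.of k)) qW)
      (Sigma.ι T a) := fun a => by
    refine IsPullback.of_right ?_ (pullback.lift_snd _ _ _) (IsPullback.of_hasPullback _ qW)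
    rw [show Sigma.ι T a ≫ qW = q a from Sigma.ι_desc _ _,
      show j a ≫ pullback.fst _ qW = pullback.fst _ (q a) from pullback.lift_fst _ _ _]
    exact IsPullback.of_hasPullback _ _
  haveI : ∀ a, IsClosedImmersion (j a) := fun a => MorphismProperty.of_isPullback (hj a).flip inferInstance
  let N : Fin r → (Pic13.prodK k X qW).Modules := fun a => (Coh.push (j a)).obj (M a)
  have hN : ∀ a, Coh.IsCoh (N a) := fun a => H24FSch.isCoh_pushforward_of_isClosedImmersion (j a) (hM a)
  refine ⟨W, qW, inferInstance, inferInstance, ∐ N, H10Coh.isCoh_sigma _ hN, fun L ⟨a, hL⟩ => ?_⟩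
  obtain ⟨t, ht, ⟨e⟩⟩ := hmem a L hL
  have ht' : (t ≫ Sigma.ι T a) ≫ qW = 𝟙 _ := by rw [Category.assoc, Sigma.ι_desc, ht]
  refine ⟨t ≫ Sigma.ι T a, ht', ⟨?_⟩⟩
  let s := Pic13.sliceAt k X qW (t ≫ Sigma.ι T a) ht'
  let sa := Pic13.sliceAt k X (q a) t ht
  have hs : sa ≫ j a = s := by
    refine pullback.hom_ext ?_ ?_
    · rw [Category.assoc, show j a ≫ pullback.fst _ qW = pullback.fst _ (q a) from pullback.lift_fst _ _ _]
      exact (pullback.lift_fst _ _ _).trans (pullback.lift_fst _ _ _).symm
    · rw [Category.assoc, (hj a).w, ← Category.assoc,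
        show sa ≫ pullback.snd _ (q a) = (X ↘ Spec (CommRingCat.of k)) ≫ t from pullback.lift_snd _ _ _,
        Category.assoc]
      exact (pullback.lift_snd _ _ _).symm
  haveI : (Scheme.Modules.pullback s).IsLeftAdjoint :=
    (Scheme.Modules.pullbackPushforwardAdjunction s).isLeftAdjoint
  haveI : PreservesColimitsOfSize.{0, 0} (Scheme.Modules.pullback s) :=
    (Scheme.Modules.pullbackPushforwardAdjunction s).leftAdjoint_preservesColimits
  have hzero : ∀ b, b ≠ a → IsZero ((Scheme.Modules.pullback s).obj (N b)) := fun b hb => by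
    refine H16Derived.KFlat.Stalk.isZero_of_stalk fun x => ?_
    refine (H25Euler.notMem_support_iff _ x).1 fun hx => ?_
    rw [LeadProper.support_pullback (hF := (hN b).1) (hft := (hN b).2)] at hx
    change s.base x ∈ CohB1.support (N b) at hx
    rw [OpenSS.support_push_eq (j b) (M b)] at hx
    obtain ⟨y, -, hy⟩ := hx
    have h1 : (pullback.snd (X ↘ Spec (CommRingCat.of k)) qW).base (s.base x) ∈ Set.range (Sigma.ι T a).base :=
      ⟨t.base ((X ↘ Spec (CommRingCat.of k)).base x), by
        rw [← Scheme.Hom.comp_apply, ← Scheme.Hom.comp_apply, ← Scheme.Hom.comp_apply]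
        have h : ((X ↘ Spec (CommRingCat.of k)) ≫ t) ≫ Sigma.ι T a =
            s ≫ pullback.snd (X ↘ Spec (CommRingCat.of k)) qW := by
          rw [Category.assoc]; exact (pullback.lift_snd _ _ _).symm
        exact congrArg (fun g : X ⟶ W => g.base x) h⟩
    have h2 : (pullback.snd (X ↘ Spec (CommRingCat.of k)) qW).base (s.base x) ∈ Set.range (Sigma.ι T b).base := by
      rw [← hy, ← Scheme.Hom.comp_apply, (hj b).w, Scheme.Hom.comp_apply]
      exact ⟨_, rfl⟩
    exact Set.disjoint_iff.1 (by
      simpa [Scheme.Hom.coe_opensRange] using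
        (TopologicalSpace.Opens.coe_disjoint.2 (disjoint_opensRange_sigmaι T b a hb))) ⟨h2, h1⟩
  haveI := H24Hilb.Closed.isIso_counit_of_isClosedImmersion (j a) (M a)
  exact PreservesCoproduct.iso (Scheme.Modules.pullback s) N ≪≫ sigmaIsoOfZero _ a hzero ≪≫
    (Scheme.Modules.pullbackCongr hs.symm).app (N a) ≪≫ ((Scheme.Modules.pullbackComp sa (j a)).app (N a)).symm ≪≫
    (Scheme.Modules.pullback sa).mapIso (@asIso _ _ _ _ _
      (H24Hilb.Closed.isIso_counit_of_isClosedImmersion (j a) (M a))) ≪≫ e

end Groth.Agent.H10Coh.SatSub
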